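import Mathlib

/-!
# Elementwise description of the homology of a complex of abelian groups (any complex shape)

Adapted from helper22's `AbHomology` (cochain complexes indexed by `ℕ`) to arbitrary shapes.
-/

set_option autoImplicit false

universe w

open CategoryTheory CategoryTheory.Limits

namespace Groth.Agent.Lib27.AbCls

variable {ι : Type*} {c : ComplexShape ι} (K : HomologicalComplex AddCommGrpCat.{w} c)

/-- Cycles are exactly the image of `iCycles`. -/
lemma exists_cycle (i j : ι) (hj : c.next i = j) (z : K.X i) (hz : K.d i j z = 0) :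
    ∃ y : K.cycles i, K.iCycles i y = z := by
  have hS : (ShortComplex.mk (K.iCycles i) (K.d i j) (K.iCycles_d i j)).Exact :=
    ShortComplex.exact_of_f_is_kernel _ (K.cyclesIsKernel i j hj)
  exact (ShortComplex.ab_exact_iff _).1 hS z hz

lemma iCycles_injective (i : ι) : Function.Injective (K.iCycles i) :=
  (AddCommGrpCat.mono_iff_injective _).1 inferInstance

/-- The cycle attached to an element killed by the differential. -/
noncomputable def cyc (i j : ι) (hj : c.next i = j) (z : K.X i) (hz : K.d i j z = 0) :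
    K.cycles i :=
  (exists_cycle K i j hj z hz).choose

@[simp] lemma iCycles_cyc (i j : ι) (hj : c.next i = j) (z : K.X i) (hz : K.d i j z = 0) :
    K.iCycles i (cyc K i j hj z hz) = z :=
  (exists_cycle K i j hj z hz).choose_spec

lemma d_iCycles (i j : ι) (y : K.cycles i) : K.d i j (K.iCycles i y) = 0 := by
  have h := K.iCycles_d i j
  exact congrArg (fun φ => φ y) (congrArg AddCommGrpCat.Hom.hom h)

lemma cyc_iCycles (i j : ι) (hj : c.next i = j) (y : K.cycles i) :
    cyc K i j hj (K.iCycles i y) (d_iCycles K i j y) = y :=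
  iCycles_injective K i (iCycles_cyc K i j hj _ _)

/-- The homology class of a cycle. -/
noncomputable def cls (i j : ι) (hj : c.next i = j) (z : K.X i) (hz : K.d i j z = 0) :
    K.homology i :=
  K.homologyπ i (cyc K i j hj z hz)

lemma exists_cls (i j : ι) (hj : c.next i = j) (x : K.homology i) :
    ∃ (z : K.X i) (hz : K.d i j z = 0), cls K i j hj z hz = x := by
  obtain ⟨y, hy⟩ := (AddCommGrpCat.epi_iff_surjective (K.homologyπ i)).1 inferInstance x
  refine ⟨K.iCycles i y, d_iCycles K i j y, ?_⟩
  rw [cls, cyc_iCycles, hy]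

lemma cls_sub (i j : ι) (hj : c.next i = j) (z z' : K.X i) (hz : K.d i j z = 0)
    (hz' : K.d i j z' = 0) :
    cls K i j hj z hz - cls K i j hj z' hz' =
      cls K i j hj (z - z') (by rw [map_sub, hz, hz', sub_zero]) := by
  rw [cls, cls, cls, ← map_sub]
  congr 1
  apply iCycles_injective K i
  rw [map_sub, iCycles_cyc, iCycles_cyc, iCycles_cyc]

lemma homologyπ_eq_zero_iff (k i : ι) (hk : c.prev i = k) (y : K.cycles i) :
    K.homologyπ i y = 0 ↔ ∃ w : K.X k, K.toCycles k i w = y := by
  have hS : (ShortComplex.mk (K.toCycles k i) (K.homologyπ i)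
      (K.toCycles_comp_homologyπ k i)).Exact :=
    ShortComplex.exact_of_g_is_cokernel _ (K.homologyIsCokernel k i hk)
  constructor
  · intro h
    exact (ShortComplex.ab_exact_iff _).1 hS y h
  · rintro ⟨w, rfl⟩
    have h := K.toCycles_comp_homologyπ k i
    exact congrArg (fun φ => φ w) (congrArg AddCommGrpCat.Hom.hom h)

lemma toCycles_apply (k i : ι) (w : K.X k) : K.iCycles i (K.toCycles k i w) = K.d k i w := by
  have h := K.toCycles_i k i
  exact congrArg (fun φ => φ w) (congrArg AddCommGrpCat.Hom.hom h)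

/-- A class vanishes iff the cycle is a boundary. -/
lemma cls_eq_zero_iff (i j k : ι) (hj : c.next i = j) (hk : c.prev i = k) (z : K.X i)
    (hz : K.d i j z = 0) :
    cls K i j hj z hz = 0 ↔ ∃ w : K.X k, K.d k i w = z := by
  rw [cls, homologyπ_eq_zero_iff K k i hk]
  constructor
  · rintro ⟨w, hw⟩
    refine ⟨w, ?_⟩
    rw [← toCycles_apply, hw, iCycles_cyc]
  · rintro ⟨w, hw⟩
    refine ⟨w, ?_⟩
    apply iCycles_injective K i
    rw [toCycles_apply, iCycles_cyc, hw]

/-- Two classes agree iff the cycles differ by a boundary. -/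
lemma cls_eq_cls_iff (i j k : ι) (hj : c.next i = j) (hk : c.prev i = k) (z z' : K.X i)
    (hz : K.d i j z = 0) (hz' : K.d i j z' = 0) :
    cls K i j hj z hz = cls K i j hj z' hz' ↔ ∃ w : K.X k, K.d k i w = z - z' := by
  rw [← sub_eq_zero, cls_sub, cls_eq_zero_iff K i j k hj hk]

variable {K} {L : HomologicalComplex AddCommGrpCat.{w} c} (φ : K ⟶ L)

lemma d_map (i j : ι) (z : K.X i) (hz : K.d i j z = 0) :
    L.d i j (φ.f i z) = 0 := by
  have h := φ.comm i j
  have h2 : L.d i j (φ.f i z) = φ.f j (K.d i j z) :=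
    congrArg (fun ψ => ψ z) (congrArg AddCommGrpCat.Hom.hom h)
  rw [h2, hz, map_zero]

lemma comm_apply (i j : ι) (z : K.X i) :
    L.d i j (φ.f i z) = φ.f j (K.d i j z) := by
  have h := φ.comm i j
  exact congrArg (fun ψ => ψ z) (congrArg AddCommGrpCat.Hom.hom h)

/-- Functoriality of classes. -/
lemma map_cls (i j : ι) (hj : c.next i = j) (z : K.X i) (hz : K.d i j z = 0) :
    HomologicalComplex.homologyMap φ i (cls K i j hj z hz) =
      cls L i j hj (φ.f i z) (d_map φ i j z hz) := by
  have h := HomologicalComplex.homologyπ_naturality φ i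
  have h2 : HomologicalComplex.homologyMap φ i (K.homologyπ i (cyc K i j hj z hz)) =
      L.homologyπ i (HomologicalComplex.cyclesMap φ i (cyc K i j hj z hz)) :=
    congrArg (fun ψ => ψ (cyc K i j hj z hz)) (congrArg AddCommGrpCat.Hom.hom h)
  rw [cls, h2, cls]
  congr 1
  apply iCycles_injective L i
  rw [iCycles_cyc]
  have h3 := HomologicalComplex.cyclesMap_i φ i
  have h4 : L.iCycles i (HomologicalComplex.cyclesMap φ i (cyc K i j hj z hz)) =
      φ.f i (K.iCycles i (cyc K i j hj z hz)) :=
    congrArg (fun ψ => ψ (cyc K i j hj z hz)) (congrArg AddCommGrpCat.Hom.hom h3)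
  rw [h4, iCycles_cyc]

lemma cls_congr (i j : ι) (hj : c.next i = j) (z z' : K.X i) (hz : K.d i j z = 0) (h : z = z') :
    cls K i j hj z hz = cls K i j hj z' (h ▸ hz) := by
  subst h; rfl

/-- A morphism of complexes of abelian groups is a quasi-isomorphism in degree `i` as soon as
the induced map on homology is bijective. -/
lemma quasiIsoAt_of_bijective (i : ι)
    (h : Function.Bijective (HomologicalComplex.homologyMap φ i)) : QuasiIsoAt φ i := by
  rw [quasiIsoAt_iff_isIso_homologyMap]
  exact (ConcreteCategory.isIso_iff_bijective _).2 h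

end Groth.Agent.Lib27.AbCls
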