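import Groth.Agent.Lib27.Homol.AbCls

/-!
# Simplicial abelian groups: a homotopy equivalence of underlying simplicial sets induces a
quasi-isomorphism of alternating face map complexes (for S6817).

Strategy: the free simplicial abelian group functor `ℤ[-]` turns simplicial-set homotopies into
simplicial homotopies of additive maps, hence chain homotopies; so `ℤ[f]` is a quasi-isomorphism.
The counit `ε : ℤ[X] ⟶ X` and the (non-additive) map `x ↦ [x] - [0]` on *normalised cycles*
exhibit `H_n(X)` as a "retract" of `H_n(ℤ[X])` well enough to transport bijectivity.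
-/

set_option autoImplicit false
universe u
open CategoryTheory AlgebraicTopology Simplicial Opposite AlgebraicTopology.DoldKan

namespace Groth.Agent.Lib27.SimpAb

open Groth.Agent.Lib27.AbCls

/-- free simplicial abelian group functor. -/
noncomputable abbrev Zf : SSet.{u} ⥤ SimplicialObject AddCommGrpCat.{u} :=
  (SimplicialObject.whiskering _ _).obj AddCommGrpCat.free

/-- underlying simplicial set. -/
abbrev U (X : SimplicialObject AddCommGrpCat.{u}) : SSet.{u} := X ⋙ forget AddCommGrpCat.{u}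

/-- the alternating face map complex. -/
noncomputable abbrev KC (X : SimplicialObject AddCommGrpCat.{u}) : ChainComplex AddCommGrpCat.{u} ℕ :=
  (alternatingFaceMapComplex AddCommGrpCat.{u}).obj X

lemma homologyMap_eq_of_homotopy {S T : SSet.{u}} {a b : S ⟶ T} (H : SSet.Homotopy a b) (n : ℕ) :
    HomologicalComplex.homologyMap ((alternatingFaceMapComplex AddCommGrpCat.{u}).map (Zf.map a)) n =
    HomologicalComplex.homologyMap ((alternatingFaceMapComplex AddCommGrpCat.{u}).map (Zf.map b)) n :=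
  (H.toSimplicialObjectHomotopy.whiskerRight AddCommGrpCat.free).map_homology_eq n

/-- the counit `ℤ[X] ⟶ X`. -/
noncomputable def ε (X : SimplicialObject AddCommGrpCat.{u}) : Zf.obj (U X) ⟶ X where
  app n := AddCommGrpCat.ofHom (FreeAbelianGroup.lift (fun x : X.obj n => x))
  naturality := by
    intro n m φ
    apply AddCommGrpCat.hom_ext
    apply FreeAbelianGroup.lift_ext
    intro x
    show FreeAbelianGroup.lift (fun x => x) (FreeAbelianGroup.map _ (FreeAbelianGroup.of x)) =
      X.map φ (FreeAbelianGroup.lift (fun x => x) (FreeAbelianGroup.of x))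
    rw [FreeAbelianGroup.map_of_apply, FreeAbelianGroup.lift_apply_of, FreeAbelianGroup.lift_apply_of]
    rfl

lemma ε_app_of (X : SimplicialObject AddCommGrpCat.{u}) (n : SimplexCategoryᵒᵖ) (x : X.obj n) :
    (ε X).app n (FreeAbelianGroup.of x) = x := by
  show FreeAbelianGroup.lift (fun x => x) (FreeAbelianGroup.of x) = x
  rw [FreeAbelianGroup.lift_apply_of]

lemma ε_naturality {X Y : SimplicialObject AddCommGrpCat.{u}} (f : X ⟶ Y) :
    Zf.map (Functor.whiskerRight f (forget AddCommGrpCat.{u})) ≫ ε Y = ε X ≫ f := by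
  ext n : 2
  refine FreeAbelianGroup.lift_ext
    (AddCommGrpCat.Hom.hom ((Zf.map (Functor.whiskerRight f (forget AddCommGrpCat.{u})) ≫ ε Y).app n))
    (AddCommGrpCat.Hom.hom ((ε X ≫ f).app n)) ?_
  intro x
  show FreeAbelianGroup.lift (fun x => x) (FreeAbelianGroup.map _ (FreeAbelianGroup.of x)) =
      f.app n (FreeAbelianGroup.lift (fun x => x) (FreeAbelianGroup.of x))
  rw [FreeAbelianGroup.map_of_apply, FreeAbelianGroup.lift_apply_of, FreeAbelianGroup.lift_apply_of]
  rfl

lemma Zf_map_app_of {S T : SSet.{u}} (a : S ⟶ T) (n : SimplexCategoryᵒᵖ) (x : S.obj n) :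
    (Zf.map a).app n (FreeAbelianGroup.of x) = FreeAbelianGroup.of (a.app n x) := by
  show FreeAbelianGroup.map _ (FreeAbelianGroup.of x) = _
  rw [FreeAbelianGroup.map_of_apply]

lemma Zf_obj_map_of (S : SSet.{u}) {n m : SimplexCategoryᵒᵖ} (φ : n ⟶ m) (x : S.obj n) :
    (Zf.obj S).map φ (FreeAbelianGroup.of x) = FreeAbelianGroup.of (S.map φ x) := by
  show FreeAbelianGroup.map _ (FreeAbelianGroup.of x) = _
  rw [FreeAbelianGroup.map_of_apply]

lemma sum_zsmul_apply {M N : AddCommGrpCat.{u}} {ι : Type*} (s : Finset ι) (a : ι → ℤ)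
    (φ : ι → (M ⟶ N)) (x : M) :
    (∑ i ∈ s, a i • φ i) x = ∑ i ∈ s, a i • (φ i x) := by
  have h : (∑ i ∈ s, a i • φ i).hom = ∑ i ∈ s, a i • (φ i).hom :=
    map_sum (AddCommGrpCat.homAddEquiv (M := M) (N := N)) _ _
  show (∑ i ∈ s, a i • φ i).hom x = _
  rw [h, AddMonoidHom.finsetSum_apply]
  rfl

lemma d_apply (X : SimplicialObject AddCommGrpCat.{u}) (n : ℕ) (x : X _⦋n + 1⦌) :
    (KC X).d (n + 1) n x = ∑ i : Fin (n + 2), (-1 : ℤ) ^ (i : ℕ) • (X.δ i x) := by
  have h : (KC X).d (n + 1) n =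
      ∑ i : Fin (n + 2), (-1 : ℤ) ^ (i : ℕ) • X.δ i := AlternatingFaceMapComplex.obj_d_eq X n
  rw [h]
  exact sum_zsmul_apply _ _ _ _

section P

variable (X : SimplicialObject AddCommGrpCat.{u})

/-- the Dold–Kan projector, as a chain map. -/
noncomputable def pC : KC X ⟶ KC X :=
  (PInfty : AlternatingFaceMapComplex.obj X ⟶ AlternatingFaceMapComplex.obj X)

lemma δ_succ_p (n : ℕ) (j : Fin (n + 1)) (x : X _⦋n + 1⦌) :
    X.δ j.succ ((pC X).f (n + 1) x) = 0 := by
  have h := HigherFacesVanish.of_P (X := X) (n + 1) n j (by omega)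
  have h2 : (PInfty : AlternatingFaceMapComplex.obj X ⟶ AlternatingFaceMapComplex.obj X).f (n + 1) ≫
      X.δ j.succ = 0 := by
    rw [PInfty_f]; exact h
  exact congrArg (fun φ => φ x) (congrArg AddCommGrpCat.Hom.hom h2)

lemma p_eq_self (n : ℕ) (x : X _⦋n + 1⦌) (hx : ∀ j : Fin (n + 1), X.δ j.succ x = 0) :
    (pC X).f (n + 1) x = x := by
  let N : AddSubgroup (X _⦋n + 1⦌) := ⨅ j : Fin (n + 1), (X.δ j.succ).hom.ker
  let φ : AddCommGrpCat.of N ⟶ X _⦋n + 1⦌ := AddCommGrpCat.ofHom N.subtype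
  have v : HigherFacesVanish (n + 1) φ := by
    intro j _
    ext y
    have hy : (y : X _⦋n + 1⦌) ∈ N := y.2
    have := (AddSubgroup.mem_iInf.1 hy) j
    exact this
  have h := v.comp_P_eq_self
  have hxN : x ∈ N := AddSubgroup.mem_iInf.2 (fun j => hx j)
  have h2 := congrArg (fun ψ => ψ (⟨x, hxN⟩ : N)) (congrArg AddCommGrpCat.Hom.hom h)
  have h3 : (PInfty : AlternatingFaceMapComplex.obj X ⟶ AlternatingFaceMapComplex.obj X).f (n + 1) =
    (P (n + 1)).f (n + 1) := PInfty_f _
  show (PInfty : AlternatingFaceMapComplex.obj X ⟶ AlternatingFaceMapComplex.obj X).f (n + 1) x = x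
  rw [h3]
  exact h2

lemma p_zero (x : X _⦋0⦌) : (pC X).f 0 x = x := rfl

lemma homologyMap_pC (n : ℕ) : HomologicalComplex.homologyMap (pC X) n = 𝟙 _ := by
  have h := (homotopyPInftyToId X).homologyMap_eq n
  rw [HomologicalComplex.homologyMap_id] at h
  exact h

end P

end Groth.Agent.Lib27.SimpAb
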