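import Groth.Agent.Lib27.Homol.SimpAb

/-! Main argument for S6817 (see `SimpAb.lean`). -/

set_option autoImplicit false
universe u
open CategoryTheory AlgebraicTopology Simplicial Opposite AlgebraicTopology.DoldKan

namespace Groth.Agent.Lib27.SimpAb

open Groth.Agent.Lib27.AbCls

variable (X : SimplicialObject AddCommGrpCat.{u})

/-- normalised cycles: all faces vanish. -/
def Nrm (n : ℕ) (x : X _⦋n⦌) : Prop :=
  match n, x with
  | 0, _ => True
  | (n + 1), x => ∀ i : Fin (n + 2), X.δ i x = 0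

lemma next_zero : (ComplexShape.down ℕ).next 0 = 0 := by simp
lemma next_succ (n : ℕ) : (ComplexShape.down ℕ).next (n + 1) = n := by simp
lemma prev_eq (n : ℕ) : (ComplexShape.down ℕ).prev n = n + 1 := by simp

lemma d_zero_next (K : ChainComplex AddCommGrpCat.{u} ℕ) (z : K.X 0) :
    K.d 0 ((ComplexShape.down ℕ).next 0) z = 0 := by
  have : K.d 0 ((ComplexShape.down ℕ).next 0) = 0 := K.shape _ _ (by simp)
  rw [this]; rfl

lemma d_nrm (n : ℕ) (x : X _⦋n⦌) (hx : Nrm X n x) :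
    (KC X).d n ((ComplexShape.down ℕ).next n) x = 0 := by
  cases n with
  | zero => exact d_zero_next _ _
  | succ n =>
    rw [next_succ, d_apply]
    apply Finset.sum_eq_zero
    intro i _
    rw [hx i, smul_zero]

lemma p_nrm (n : ℕ) (x : X _⦋n⦌) (hx : Nrm X n x) : (pC X).f n x = x := by
  cases n with
  | zero => rfl
  | succ n => exact p_eq_self X n x (fun j => hx j.succ)

/-- `d w = δ₀ w` when the higher faces of `w` vanish. -/
lemma d_eq_δ_zero (n : ℕ) (w : X _⦋n + 1⦌) (hw : ∀ j : Fin (n + 1), X.δ j.succ w = 0) :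
    (KC X).d (n + 1) n w = X.δ 0 w := by
  rw [d_apply, Fin.sum_univ_succ]
  simp [hw]

lemma nrm_p (n : ℕ) (z : X _⦋n⦌) (hz : (KC X).d n ((ComplexShape.down ℕ).next n) z = 0) :
    Nrm X n ((pC X).f n z) := by
  cases n with
  | zero => trivial
  | succ n =>
    have h1 : ∀ j : Fin (n + 1), X.δ j.succ ((pC X).f (n + 1) z) = 0 := fun j => δ_succ_p X n j z
    have h2 : (KC X).d (n + 1) n ((pC X).f (n + 1) z) = 0 := by
      rw [comm_apply (pC X) (n + 1) n z]
      rw [next_succ] at hz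
      rw [hz, map_zero]
    rw [d_eq_δ_zero X n _ h1] at h2
    intro i
    refine Fin.cases h2 (fun j => h1 j) i

/-- the generator `[x]`, typed in the complex. -/
noncomputable def ofZ (n : ℕ) (x : X _⦋n⦌) : (KC (Zf.obj (U X))).X n :=
  (FreeAbelianGroup.of x : FreeAbelianGroup (X _⦋n⦌))

/-- `x ↦ [x] - [0]`. -/
noncomputable def η (n : ℕ) (x : X _⦋n⦌) : (KC (Zf.obj (U X))).X n :=
  ofZ X n x - ofZ X n 0

lemma Zδ_ofZ (n : ℕ) (i : Fin (n + 2)) (w : X _⦋n + 1⦌) :
    (Zf.obj (U X)).δ i (ofZ X (n + 1) w) = ofZ X n (X.δ i w) :=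
  Zf_obj_map_of (U X) _ w

lemma Zδ_η (n : ℕ) (i : Fin (n + 2)) (w : X _⦋n + 1⦌) :
    (Zf.obj (U X)).δ i (η X (n + 1) w) = η X n (X.δ i w) := by
  unfold η
  rw [map_sub, Zδ_ofZ, Zδ_ofZ, map_zero]

lemma η_zero (n : ℕ) : η X n 0 = 0 := by
  unfold η; exact sub_self _

lemma ε_ofZ (n : ℕ) (x : X _⦋n⦌) :
    ((alternatingFaceMapComplex AddCommGrpCat.{u}).map (ε X)).f n (ofZ X n x) = x :=
  ε_app_of X (op ⦋n⦌) x

lemma ε_η (n : ℕ) (x : X _⦋n⦌) :
    ((alternatingFaceMapComplex AddCommGrpCat.{u}).map (ε X)).f n (η X n x) = x := by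
  unfold η
  rw [map_sub, ε_ofZ, ε_ofZ]
  exact sub_zero x

lemma d_η_of_nrm (n : ℕ) (x : X _⦋n⦌) (hx : Nrm X n x) :
    (KC (Zf.obj (U X))).d n ((ComplexShape.down ℕ).next n) (η X n x) = 0 := by
  cases n with
  | zero => exact d_zero_next _ _
  | succ n =>
    rw [next_succ, d_apply]
    apply Finset.sum_eq_zero
    intro i _
    rw [Zδ_η, hx i, η_zero, smul_zero]

lemma d_η (n : ℕ) (w : X _⦋n + 1⦌) (hw : ∀ j : Fin (n + 1), X.δ j.succ w = 0) :
    (KC (Zf.obj (U X))).d (n + 1) n (η X (n + 1) w) = η X n (X.δ 0 w) := by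
  rw [d_apply, Fin.sum_univ_succ]
  have : ∀ j : Fin (n + 1), (Zf.obj (U X)).δ j.succ (η X (n + 1) w) = 0 := by
    intro j
    rw [Zδ_η, hw j, η_zero]
  simp only [this, smul_zero, Finset.sum_const_zero, add_zero]
  rw [Zδ_η]
  simp

variable {X} {Y : SimplicialObject AddCommGrpCat.{u}} (f : X ⟶ Y)

lemma nrm_map (n : ℕ) (x : X _⦋n⦌) (hx : Nrm X n x) : Nrm Y n (f.app (op ⦋n⦌) x) := by
  cases n with
  | zero => trivial
  | succ n =>
    intro i
    have h := SimplicialObject.δ_naturality f i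
    have h2 : Y.δ i (f.app (op ⦋n + 1⦌) x) = f.app (op ⦋n⦌) (X.δ i x) :=
      (congrArg (fun φ => φ x) (congrArg AddCommGrpCat.Hom.hom h)).symm
    rw [h2, hx i, map_zero]

/-- `ℤ[f]` on chain complexes. -/
noncomputable abbrev CZ : KC (Zf.obj (U X)) ⟶ KC (Zf.obj (U Y)) :=
  (alternatingFaceMapComplex AddCommGrpCat.{u}).map
    (Zf.map (Functor.whiskerRight f (forget AddCommGrpCat.{u})))

lemma CZ_ofZ (n : ℕ) (x : X _⦋n⦌) :
    (CZ f).f n (ofZ X n x) = ofZ Y n (f.app (op ⦋n⦌) x) :=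
  Zf_map_app_of (Functor.whiskerRight f (forget AddCommGrpCat.{u})) (op ⦋n⦌) x

lemma CZ_η (n : ℕ) (x : X _⦋n⦌) :
    (CZ f).f n (η X n x) = η Y n (f.app (op ⦋n⦌) x) := by
  unfold η
  rw [map_sub, CZ_ofZ, CZ_ofZ, map_zero]

lemma CZ_comp_ε :
    CZ f ≫ (alternatingFaceMapComplex AddCommGrpCat.{u}).map (ε Y) =
      (alternatingFaceMapComplex AddCommGrpCat.{u}).map (ε X) ≫
        (alternatingFaceMapComplex AddCommGrpCat.{u}).map f := by
  rw [← Functor.map_comp, ← Functor.map_comp, ε_naturality]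

lemma exists_nrm_rep (X : SimplicialObject AddCommGrpCat.{u}) (n : ℕ) (h : (KC X).homology n) :
    ∃ (x : X _⦋n⦌) (hx : Nrm X n x), cls (KC X) n _ rfl x (d_nrm X n x hx) = h := by
  obtain ⟨z, hz, rfl⟩ := exists_cls (KC X) n _ rfl h
  refine ⟨(pC X).f n z, nrm_p X n z hz, ?_⟩
  have h1 := map_cls (pC X) n _ rfl z hz
  rw [homologyMap_pC] at h1
  exact h1.symm

theorem quasiIso_of_bijective
    (hb : ∀ n, Function.Bijective (HomologicalComplex.homologyMap (CZ f) n)) :
    QuasiIso ((alternatingFaceMapComplex AddCommGrpCat.{u}).map f) := by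
  refine ⟨fun n => quasiIsoAt_of_bijective _ n ⟨?_, ?_⟩⟩
  · -- injectivity
    rw [← AddMonoidHom.coe_coe, injective_iff_map_eq_zero]
    intro h hh
    obtain ⟨x, hx, rfl⟩ := exists_nrm_rep X n h
    have hh' : cls (KC Y) n _ rfl (f.app (op ⦋n⦌) x) (d_nrm Y n _ (nrm_map f n x hx)) = 0 := by
      have := map_cls ((alternatingFaceMapComplex AddCommGrpCat.{u}).map f) n _ rfl x (d_nrm X n x hx)
      rw [← hh]
      exact this.symm
    obtain ⟨w, hw⟩ := (cls_eq_zero_iff (KC Y) n _ (n + 1) rfl (prev_eq n) _ _).1 hh'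
    -- normalise `w`
    have hw1 : ∀ j : Fin (n + 1), Y.δ j.succ ((pC Y).f (n + 1) w) = 0 := fun j => δ_succ_p Y n j w
    have hw2 : Y.δ 0 ((pC Y).f (n + 1) w) = f.app (op ⦋n⦌) x := by
      rw [← d_eq_δ_zero Y n _ hw1, comm_apply (pC Y) (n + 1) n w, hw]
      exact p_nrm Y n _ (nrm_map f n x hx)
    -- so `η (f x)` is a boundary
    have h3 : cls (KC (Zf.obj (U Y))) n _ rfl (η Y n (f.app (op ⦋n⦌) x))
        (d_η_of_nrm Y n _ (nrm_map f n x hx)) = 0 := by
      rw [cls_eq_zero_iff (KC (Zf.obj (U Y))) n _ (n + 1) rfl (prev_eq n)]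
      exact ⟨η Y (n + 1) ((pC Y).f (n + 1) w), by rw [d_η Y n _ hw1, hw2]⟩
    have h4 : HomologicalComplex.homologyMap (CZ f) n
        (cls (KC (Zf.obj (U X))) n _ rfl (η X n x) (d_η_of_nrm X n x hx)) = 0 := by
      rw [map_cls, ← h3]
      exact cls_congr n _ rfl _ _ _ (CZ_η f n x)
    have h5 : cls (KC (Zf.obj (U X))) n _ rfl (η X n x) (d_η_of_nrm X n x hx) = 0 := by
      apply (hb n).1
      rw [h4, map_zero]
    have h6 := congrArg
      (HomologicalComplex.homologyMap ((alternatingFaceMapComplex AddCommGrpCat.{u}).map (ε X)) n) h5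
    rw [map_cls, map_zero] at h6
    rw [← h6]
    exact (cls_congr n _ rfl _ _ _ (ε_η X n x)).symm
  · intro h
    obtain ⟨y, hy, rfl⟩ := exists_nrm_rep Y n h
    obtain ⟨c, hc⟩ := (hb n).2 (cls (KC (Zf.obj (U Y))) n _ rfl (η Y n y) (d_η_of_nrm Y n y hy))
    refine ⟨HomologicalComplex.homologyMap ((alternatingFaceMapComplex AddCommGrpCat.{u}).map (ε X)) n c, ?_⟩
    have e1 : HomologicalComplex.homologyMap ((alternatingFaceMapComplex AddCommGrpCat.{u}).map f) n
        (HomologicalComplex.homologyMap ((alternatingFaceMapComplex AddCommGrpCat.{u}).map (ε X)) n c) =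
        HomologicalComplex.homologyMap ((alternatingFaceMapComplex AddCommGrpCat.{u}).map (ε Y)) n
          (HomologicalComplex.homologyMap (CZ f) n c) := by
      have := congrArg (fun φ => HomologicalComplex.homologyMap φ n) (CZ_comp_ε f)
      simp only [HomologicalComplex.homologyMap_comp] at this
      exact (congrArg (fun φ => φ c) (congrArg AddCommGrpCat.Hom.hom this)).symm
    rw [e1, hc, map_cls]
    exact cls_congr n _ rfl _ _ _ (ε_η Y n y)

theorem main (g : U Y ⟶ U X)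
    (hX : Nonempty (SSet.Homotopy (Functor.whiskerRight f (forget AddCommGrpCat.{u}) ≫ g) (𝟙 _)) ∨
      Nonempty (SSet.Homotopy (𝟙 _) (Functor.whiskerRight f (forget AddCommGrpCat.{u}) ≫ g)))
    (hY : Nonempty (SSet.Homotopy (g ≫ Functor.whiskerRight f (forget AddCommGrpCat.{u})) (𝟙 _)) ∨
      Nonempty (SSet.Homotopy (𝟙 _) (g ≫ Functor.whiskerRight f (forget AddCommGrpCat.{u})))) :
    QuasiIso ((alternatingFaceMapComplex AddCommGrpCat.{u}).map f) := by
  apply quasiIso_of_bijective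
  intro n
  have e1 : HomologicalComplex.homologyMap ((alternatingFaceMapComplex AddCommGrpCat.{u}).map
      (Zf.map (Functor.whiskerRight f (forget AddCommGrpCat.{u}) ≫ g))) n =
      HomologicalComplex.homologyMap ((alternatingFaceMapComplex AddCommGrpCat.{u}).map
      (Zf.map (𝟙 (U X)))) n := by
    rcases hX with h | h
    · obtain ⟨H⟩ := h
      exact homologyMap_eq_of_homotopy H n
    · obtain ⟨H⟩ := h
      exact (homologyMap_eq_of_homotopy H n).symm
  have e2 : HomologicalComplex.homologyMap ((alternatingFaceMapComplex AddCommGrpCat.{u}).map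
      (Zf.map (g ≫ Functor.whiskerRight f (forget AddCommGrpCat.{u})))) n =
      HomologicalComplex.homologyMap ((alternatingFaceMapComplex AddCommGrpCat.{u}).map
      (Zf.map (𝟙 (U Y)))) n := by
    rcases hY with h | h
    · obtain ⟨H⟩ := h
      exact homologyMap_eq_of_homotopy H n
    · obtain ⟨H⟩ := h
      exact (homologyMap_eq_of_homotopy H n).symm
  have id1 : (alternatingFaceMapComplex AddCommGrpCat.{u}).map (Zf.map (𝟙 (U X))) = 𝟙 _ := by
    rw [(Zf).map_id, (alternatingFaceMapComplex AddCommGrpCat.{u}).map_id]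
  have id2 : (alternatingFaceMapComplex AddCommGrpCat.{u}).map (Zf.map (𝟙 (U Y))) = 𝟙 _ := by
    rw [(Zf).map_id, (alternatingFaceMapComplex AddCommGrpCat.{u}).map_id]
  rw [id1, HomologicalComplex.homologyMap_id, (Zf).map_comp,
    (alternatingFaceMapComplex AddCommGrpCat.{u}).map_comp, HomologicalComplex.homologyMap_comp] at e1
  rw [id2, HomologicalComplex.homologyMap_id, (Zf).map_comp,
    (alternatingFaceMapComplex AddCommGrpCat.{u}).map_comp, HomologicalComplex.homologyMap_comp] at e2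
  have : IsIso (HomologicalComplex.homologyMap (CZ f) n) := ⟨_, e1, e2⟩
  exact ConcreteCategory.bijective_of_isIso _

end Groth.Agent.Lib27.SimpAb
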